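import Cfsg.Agent.HNA.Rel
import Cfsg.Agent.HNA.L0

set_option autoImplicit false
set_option Elab.async false
set_option maxRecDepth 100000
set_option linter.all false

namespace Cfsg.Agent.HNA
open Cfsg.Agent.CGT

noncomputable def l1_n1 : Net := Net.cons 16 0xc800 <|
  Net.cons 8 0xc800fc <|
  Net.cons 4 0xe0200 <|
  Net.cons 2 0x2 <|
  Net.cons 1 0x404014 <|
  Net.cons 2 0x210302 <|
  Net.cons 4 0x20d02 <|
  Net.cons 8 0xc800fa <|
  Net.cons 16 0xc800 <|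
  Net.nil
noncomputable def l1_n2 : Net := Net.cons 16 0x3000 <|
  Net.cons 8 0x300000 <|
  Net.cons 4 0x6 <|
  Net.cons 2 0x20 <|
  Net.cons 1 0x44541 <|
  Net.cons 2 0x331 <|
  Net.cons 4 0x30009 <|
  Net.cons 8 0x300000 <|
  Net.cons 16 0x3000 <|
  Net.nil
noncomputable def l1_ns : List Net := [Net.nil, l1_n1, l1_n2, Net.nil]
noncomputable def l1_R : List (List ℕ) := [[2, 2, 2, 2, 2, 2], [4, 4], [6, 6], [6, 2, 6, 3], [6, 4, 6, 5], [2, 2, 4, 2, 2, 4, 2, 2, 4], [2, 4, 6, 2, 4, 6, 2, 4, 6, 2, 4, 6]]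
noncomputable def l1_S0 : List (List ℕ) := [[2], [6]]
noncomputable def l1_E : Enum := ⟨l1_ns, l1_R, l1_S0, [], 0⟩
theorem l1_v : validAll (2 ^ 5) l1_ns = true := by decide +kernel
theorem l1_p0 : holdsB 5 l1_ns l1_R = true := by decide +kernel
theorem l1_p : Holds (lp l1_ns) l1_R := holdsB_sound l1_v l1_p0
theorem l1_f : allL l1_E.Sub (fixN l1_E.ns l1_E.b0) = true := by decide +kernel
theorem l1_r0 : l1_E.run [18, 17, 10, 9, 14, 13, 18, 17, 10, 9, 14, 13, 10, 9, 14, 13, 18, 17, 10, 9, 18, 17, 4, 17, 0, 9, 20, 9, 0, 9, 3, 9, 7, 25, 16, 25, 12, 25, 8204, 25, 16, 25, 12, 25, 8204, 25, 12, 25, 8204, 25, 16, 25, 12, 25, 16, 25, 8212, 17, 4, 17, 24, 9, 4120, 17, 4, 17, 0, 9, 24, 9] (1 <<< 0) (List.replicate 9 0) (Enum.done 20 [2, 4, 6]) = true := by decide +kernel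
theorem l1_fin {G : Type*} [Group G] {γ : ℕ → G} (hR : Holds (ext γ) l1_R) {H : Subgroup G}
    (hS : ∀ u ∈ l1_S0, ev (ext γ) u ∈ H) : l1_E.Fin γ H 20 [2, 4, 6] :=
  have hy : l1_E.Hyp γ H := Enum.hyp_of l1_v hR l1_p hS l1_f
  (Enum.fin_of_done hy (Enum.inv_init 9) l1_r0)
noncomputable def l2_n3 : Net := Net.cons 1 0x1 <|
  Net.nil
noncomputable def l2_ns : List Net := [Net.nil, Net.nil, Net.nil, l2_n3]
noncomputable def l2_R : List (List ℕ) := [[2, 2, 2, 2, 2, 2], [6, 6], [6, 2, 6, 3]]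
noncomputable def l2_S0 : List (List ℕ) := [[2]]
noncomputable def l2_E : Enum := ⟨l2_ns, l2_R, l2_S0, [], 0⟩
theorem l2_v : validAll (2 ^ 3) l2_ns = true := by decide +kernel
theorem l2_p0 : holdsB 3 l2_ns l2_R = true := by decide +kernel
theorem l2_p : Holds (lp l2_ns) l2_R := holdsB_sound l2_v l2_p0
theorem l2_f : allL l2_E.Sub (fixN l2_E.ns l2_E.b0) = true := by decide +kernel
theorem l2_r0 : l2_E.run [26, 25, 4, 25, 3, 9, 4104, 9] (1 <<< 0) (List.replicate 9 0) (Enum.done 2 [2, 6]) = true := by decide +kernel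
theorem l2_fin {G : Type*} [Group G] {γ : ℕ → G} (hR : Holds (ext γ) l2_R) {H : Subgroup G}
    (hS : ∀ u ∈ l2_S0, ev (ext γ) u ∈ H) : l2_E.Fin γ H 2 [2, 6] :=
  have hy : l2_E.Hyp γ H := Enum.hyp_of l2_v hR l2_p hS l2_f
  (Enum.fin_of_done hy (Enum.inv_init 9) l2_r0)
noncomputable def l3_n1 : Net := Net.cons 4 0xe <|
  Net.cons 1 0x1 <|
  Net.cons 2 0x30 <|
  Net.cons 4 0xd <|
  Net.nil
noncomputable def l3_ns : List Net := [Net.nil, l3_n1, Net.nil, Net.nil]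
noncomputable def l3_R : List (List ℕ) := [[2, 2, 2, 2, 2, 2]]
noncomputable def l3_S0 : List (List ℕ) := []
noncomputable def l3_E : Enum := ⟨l3_ns, l3_R, l3_S0, [], 0⟩
theorem l3_v : validAll (2 ^ 3) l3_ns = true := by decide +kernel
theorem l3_p0 : holdsB 3 l3_ns l3_R = true := by decide +kernel
theorem l3_p : Holds (lp l3_ns) l3_R := holdsB_sound l3_v l3_p0
theorem l3_f : allL l3_E.Sub (fixN l3_E.ns l3_E.b0) = true := by decide +kernel
theorem l3_r0 : l3_E.run [10, 9, 14, 13, 10, 9, 14, 13, 10, 9, 0, 9] (1 <<< 0) (List.replicate 5 0) (Enum.done 6 [2]) = true := by decide +kernel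
theorem l3_fin {G : Type*} [Group G] {γ : ℕ → G} (hR : Holds (ext γ) l3_R) {H : Subgroup G}
    (hS : ∀ u ∈ l3_S0, ev (ext γ) u ∈ H) : l3_E.Fin γ H 6 [2] :=
  have hy : l3_E.Hyp γ H := Enum.hyp_of l3_v hR l3_p hS l3_f
  (Enum.fin_of_done hy (Enum.inv_init 5) l3_r0)
theorem bd3 {G : Type*} [Group G] {γ : ℕ → G} (hR : Holds (ext γ) RR) : Bd (gp γ [2]) 6 :=
  Bd.step (l3_fin (hR.subR (by decide +kernel)) (wordsIn_sound γ (L := []) (by decide +kernel))) (Bd.gp_nil γ) (by norm_num)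
theorem bd2 {G : Type*} [Group G] {γ : ℕ → G} (hR : Holds (ext γ) RR) : Bd (gp γ [2, 6]) 12 :=
  Bd.step (l2_fin (hR.subR (by decide +kernel)) (wordsIn_sound γ (L := [2]) (by decide +kernel))) (bd3 hR) (by norm_num)
theorem bd1 {G : Type*} [Group G] {γ : ℕ → G} (hR : Holds (ext γ) RR) : Bd (gp γ [2, 4, 6]) 240 :=
  Bd.step (l1_fin (hR.subR (by decide +kernel)) (wordsIn_sound γ (L := [2, 6]) (by decide +kernel))) (bd2 hR) (by norm_num)
theorem bd0 {G : Type*} [Group G] {γ : ℕ → G} (hR : Holds (ext γ) RR) : Bd (gp γ [0, 2, 4, 6]) 1512000 :=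
  Bd.step (l0_fin (hR.subR (by decide +kernel)) (wordsIn_sound γ (L := [2, 4, 6]) (by decide +kernel))) (bd1 hR) (by norm_num)

end Cfsg.Agent.HNA
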